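import Cfsg.Agent.H50.Bender
import Cfsg.Agent.H49.U3Base
import Cfsg.Agent.SUZ.First
import Cfsg.Agent.SUZ.Types
import Cfsg.Agent.SUZ.Zass

/-! Binary actions (relational complexity two): the fixed point lemma and its consequences. -/

set_option autoImplicit false

namespace Cfsg.Agent.H50.Bin

open Subgroup MulAction Cfsg.Agent.SUZ Cfsg.Agent.H41

/-- the action is binary -/
def Bin (G X : Type*) [Group G] [MulAction G X] : Prop :=
  ∀ (n : ℕ) (I J : Fin n → X), 2 ≤ n →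
    (∀ i j : Fin n, i ≠ j → ∃ g : G, g • I i = J i ∧ g • I j = J j) → ∃ g : G, ∀ i, g • I i = J i

/-- the consequence of `Bin` that is used to exclude configurations -/
def FL (G X : Type*) [Group G] [MulAction G X] : Prop :=
  ∀ a b : G, ∃ g : G, (∀ α : X, a • α = α → g • α = α) ∧ (∀ α : X, b • α = α → g • α = α) ∧
    ∀ γ : X, a • γ = b • γ → g • γ = a • γ

variable {G X : Type*} [Group G] [MulAction G X]

theorem Bin.finite (h : Bin G X) {ι : Type*} [Finite ι] (I J : ι → X)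
    (hp : ∀ i j, ∃ g : G, g • I i = J i ∧ g • I j = J j) : ∃ g : G, ∀ i, g • I i = J i := by
  rcases isEmpty_or_nonempty ι with hι | hι
  · exact ⟨1, fun i => hι.elim i⟩
  let e := Finite.equivFin (ι ⊕ ι)
  have h2 : 2 ≤ Nat.card (ι ⊕ ι) := by
    rw [Nat.card_sum]
    have : 0 < Nat.card ι := Nat.card_pos
    omega
  obtain ⟨g, hg⟩ := h _ (fun k => I ((e.symm k).elim id id)) (fun k => J ((e.symm k).elim id id)) h2
    fun i j _ => hp _ _
  exact ⟨g, fun i => by simpa using hg (e (Sum.inl i))⟩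

theorem Bin.fl [Finite X] (h : Bin G X) : FL G X := by
  intro a b
  let ι := {α : X // a • α = α} ⊕ {α : X // b • α = α} ⊕ {α : X // a • α = b • α}
  let I : ι → X := Sum.elim Subtype.val (Sum.elim Subtype.val Subtype.val)
  let J : ι → X := Sum.elim Subtype.val (Sum.elim Subtype.val fun α => a • α.1)
  obtain ⟨g, hg⟩ := h.finite I J (by
    rintro (i | i | i) (j | j | j)
    · exact ⟨1, one_smul _ _, one_smul _ _⟩
    · exact ⟨1, one_smul _ _, one_smul _ _⟩
    · exact ⟨a, i.2, rfl⟩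
    · exact ⟨1, one_smul _ _, one_smul _ _⟩
    · exact ⟨1, one_smul _ _, one_smul _ _⟩
    · exact ⟨b, i.2, j.2.symm⟩
    · exact ⟨a, rfl, j.2⟩
    · exact ⟨b, i.2.symm, j.2⟩
    · exact ⟨a, rfl, rfl⟩)
  exact ⟨g, fun α hα => hg (Sum.inl ⟨α, hα⟩), fun α hα => hg (Sum.inr (Sum.inl ⟨α, hα⟩)),
    fun α hα => hg (Sum.inr (Sum.inr ⟨α, hα⟩))⟩

/-- all involutions are conjugate -/
def One (G : Type*) [Group G] : Prop :=
  ∀ u v : G, u ≠ 1 → u * u = 1 → v ≠ 1 → v * v = 1 → ∃ g : G, g * u * g⁻¹ = v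

theorem conj_fix {g u : G} {α : X} (h : u • α = α) : (g * u * g⁻¹) • g • α = g • α := by
  rw [mul_smul, mul_smul, inv_smul_smul, h]

theorem conj_fix' {g u : G} {α : X} (h : u • α = α) : (g⁻¹ * u * g) • g⁻¹ • α = g⁻¹ • α := by
  rw [mul_smul, mul_smul, smul_inv_smul, h]

theorem fix_of_conj_fix {g u : G} {α : X} (h : (g⁻¹ * u * g) • α = α) : u • g • α = g • α := by
  rw [mul_smul, mul_smul, inv_smul_eq_iff] at h; exact h

theorem One.fix_rev [Finite X] (ho : One G) {u v : G} (hu1 : u ≠ 1) (hu : u * u = 1) (hv1 : v ≠ 1)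
    (hv : v * v = 1) (h : ∀ α : X, u • α = α → v • α = α) (α : X) (hα : v • α = α) : u • α = α := by
  obtain ⟨g, rfl⟩ := ho u v hu1 hu hv1 hv
  have h1 : {α : X | (g * u * g⁻¹) • α = α} = (fun α => g • α) '' {α : X | u • α = α} := by
    ext β
    constructor
    · intro hβ
      refine ⟨g⁻¹ • β, ?_, smul_inv_smul _ _⟩
      have hβ' : (g * u * g⁻¹) • β = β := hβ
      show u • g⁻¹ • β = g⁻¹ • β
      rw [mul_smul, mul_smul, smul_eq_iff_eq_inv_smul] at hβ'
      exact hβ'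
    · rintro ⟨γ, hγ, rfl⟩; exact conj_fix hγ
  have h2 : {α : X | u • α = α} = {α : X | (g * u * g⁻¹) • α = α} := by
    refine Set.eq_of_subset_of_ncard_le (fun β hβ => h β hβ) ?_
    rw [h1, Set.ncard_image_of_injective _ (MulAction.injective g)]
  have : α ∈ {α : X | u • α = α} := h2 ▸ hα
  exact this

theorem FL.invol [Finite G] [Finite X] (h : FL G X) (ho : One G) {a b : G} (ha1 : a ≠ 1)
    (ha : a * a = 1) (hb1 : b ≠ 1) (hb : b * b = 1) :
    (∀ α : X, a • α = α ↔ b • α = α) ∨ ∀ γ : X, a • γ = b • γ → a • γ = γ := by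
  by_cases hc : ∀ γ : X, a • γ = b • γ → a • γ = γ
  · exact Or.inr hc
  left
  push Not at hc
  obtain ⟨γ, hγ, hγ'⟩ := hc
  obtain ⟨g, g1, g2, g3⟩ := h a b
  have e1 := g3 γ hγ
  have e2 : g • a • γ = γ := by
    rw [g3 (a • γ) (by rw [← mul_smul, ha, hγ, ← mul_smul, hb]), ← mul_smul, ha, one_smul]
  have hev : Even (orderOf g) := by
    rw [← Nat.not_odd_iff_even]
    intro hodd
    obtain ⟨j, hj⟩ := H41.exists_sq_pow_of_odd hodd
    have : (g * g) • γ = γ := by rw [mul_smul, e1, e2]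
    have h3 := R1.pow_fix this j
    rw [hj, e1] at h3
    exact hγ' h3
  obtain ⟨j, hj1, hj⟩ := H41.exists_invol_pow hev
  have k1 : ∀ α : X, a • α = α → g ^ j • α = α := fun α hα => R1.pow_fix (g1 α hα) j
  have k2 : ∀ α : X, b • α = α → g ^ j • α = α := fun α hα => R1.pow_fix (g2 α hα) j
  exact fun α => ⟨fun hα => ho.fix_rev hb1 hb hj1 hj k2 α (k1 α hα),
    fun hα => ho.fix_rev ha1 ha hj1 hj k1 α (k2 α hα)⟩

/-- a point fixed by an involution is fixed by the involutions commuting with it -/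
theorem FL.comm [Finite G] [Finite X] (h : FL G X) (ho : One G) {u v : G} (hu1 : u ≠ 1)
    (hu : u * u = 1) (hv : v * v = 1) (hc : u * v = v * u) {α : X} (hα : u • α = α) : v • α = α := by
  by_cases hv1 : v = 1
  · rw [hv1, one_smul]
  by_cases huv : v * u = 1
  · have : v = u := by
      rw [eq_inv_of_mul_eq_one_left huv, inv_eq_of_mul_eq_one_left hu]
    rwa [this]
  have h2 : v * u * (v * u) = 1 := by
    calc v * u * (v * u) = v * (u * v) * u := by group
      _ = (v * v) * (u * u) := by rw [hc]; group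
      _ = 1 := by rw [hu, hv, one_mul]
  rcases h.invol ho hv1 hv huv h2 with h3 | h3
  · refine ho.fix_rev hv1 hv hu1 hu (fun β hβ => ?_) α hα
    have := (h3 β).1 hβ
    rw [← hc, mul_smul, hβ] at this
    exact this
  · exact h3 α (by rw [mul_smul, hα])

section RankOne

variable {Ω : Type*} [MulAction G Ω] {a : Ω} {t : G} {Q : Subgroup G} [Finite G] [Finite X]

theorem one_of_hyp (hS : IsRankOneSetup G Ω a t Q) : One G :=
  fun _ _ hu1 hu hv1 hv => R1.invol_conj hS hu1 hu hv1 hv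

/-- no point is fixed by all involutions -/
def NT (G X : Type*) [Group G] [MulAction G X] : Prop :=
  ∀ α : X, ∃ u : G, u * u = 1 ∧ u • α ≠ α

theorem comm_of_same (h : Hyp G Ω a t Q) (hf : FL G X) (hn : NT G X) {s s' : G} (hs1 : s ≠ 1)
    (hs : s * s = 1) (hs1' : s' ≠ 1) (hs' : s' * s' = 1) {α : X} (hα : s • α = α)
    (e : ∀ α : X, s • α = α ↔ s' • α = α) : s * s' = s' * s := by
  have ho := one_of_hyp h.setup
  obtain ⟨b, hb⟩ := R1.invol_exists_fix h.setup hs
  obtain ⟨b', hb'⟩ := R1.invol_exists_fix h.setup hs'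
  by_cases hbb : b = b'
  · exact R1.invol_commute_of_fix h.setup h.rank2 hs hs' hb (hbb ▸ hb')
  exfalso
  obtain ⟨u, hu, huα⟩ := hn α
  have hu1 : u ≠ 1 := by rintro rfl; exact huα (one_smul _ _)
  obtain ⟨c, hc⟩ := R1.invol_exists_fix h.setup hu
  by_cases hcb : b = c
  · exact huα (hf.comm ho hs1 hs hu
      (R1.invol_commute_of_fix h.setup h.rank2 hs hu hb (hcb ▸ hc)) hα)
  obtain ⟨g, g1, g2⟩ := R1.two_trans h.setup hbb hcb
  have k1 : (g * s * g⁻¹) • b = b := by have := conj_fix (g := g) hb; rwa [g1] at this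
  have k2 : (g * s' * g⁻¹) • c = c := by have := conj_fix (g := g) hb'; rwa [g2] at this
  have k3 : (g * s * g⁻¹) • α = α := hf.comm ho hs1 hs (H41.conj_invol hs)
    (R1.invol_commute_of_fix h.setup h.rank2 hs (H41.conj_invol hs) hb k1) hα
  have k4 : (g * s' * g⁻¹) • α = α := by
    have h1 : s • g⁻¹ • α = g⁻¹ • α := fix_of_conj_fix (by rwa [inv_inv])
    have := conj_fix (g := g) ((e _).1 h1)
    rwa [smul_inv_smul] at this
  exact huα (hf.comm ho (H41.conj_ne_one hs1') (H41.conj_invol hs') hu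
    (R1.invol_commute_of_fix h.setup h.rank2 (H41.conj_invol hs') hu k2 hc) k4)

/-- an involution inverting an element `d` with `d² ≠ 1` fixes the points fixed by `d` -/
theorem inv_fix (h : Hyp G Ω a t Q) (hf : FL G X) (hn : NT G X) (hne : ∃ (u : G) (α : X), u ≠ 1 ∧
    u * u = 1 ∧ u • α = α) {s d : G} (hs1 : s ≠ 1) (hs : s * s = 1) (hd : s * d * s = d⁻¹)
    (hd2 : d * d ≠ 1) {α : X} (hα : d • α = α) : s • α = α := by
  have ho := one_of_hyp h.setup
  have h2 : s * d * (s * d) = 1 := by rw [← mul_assoc, hd, inv_mul_cancel]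
  have h1 : s * d ≠ 1 := by
    intro e
    apply hd2
    have : d = s := by rw [eq_inv_of_mul_eq_one_right e, inv_eq_of_mul_eq_one_left hs]
    rwa [this]
  rcases hf.invol ho hs1 hs h1 h2 with h3 | h3
  · exfalso
    obtain ⟨u, β, hu1, hu, hβ⟩ := hne
    obtain ⟨g, rfl⟩ := ho u s hu1 hu hs1 hs
    have := comm_of_same h hf hn hs1 hs h1 h2 (conj_fix hβ) h3
    apply hd2
    rw [hd, ← mul_assoc, hs, one_mul] at this
    nth_rewrite 2 [this]
    exact mul_inv_cancel d
  · exact h3 α (by rw [mul_smul, hα])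

end RankOne

/-- the action on the cosets of an elementary abelian group containing every involution that
commutes with one of its involutions is binary -/
theorem bin_of_star {Z : Subgroup G} (h2 : ∀ z ∈ Z, z * z = 1)
    (hc : ∀ z ∈ Z, z ≠ 1 → ∀ y : G, y * y = 1 → y * z = z * y → y ∈ Z) : Bin G (G ⧸ Z) := by
  have hsq : ∀ (α : G ⧸ Z) (x : G), x • α = α → x * x = 1 := by
    intro α x hx
    induction α using QuotientGroup.induction_on with
    | H g =>
      have h1 : g⁻¹ * x * g ∈ Z := by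
        have : g⁻¹ * (x * g) ∈ Z := QuotientGroup.eq.1 hx.symm
        rwa [← mul_assoc] at this
      have := h2 _ h1
      calc x * x = g * (g⁻¹ * x * g * (g⁻¹ * x * g)) * g⁻¹ := by group
        _ = 1 := by rw [this]; group
  have hcm : ∀ (α : G ⧸ Z) (x y : G), x • α = α → x ≠ 1 → y * y = 1 → y * x = x * y →
      y • α = α := by
    intro α x y hx hx1 hy hxy
    induction α using QuotientGroup.induction_on with
    | H g =>
      have h1 : g⁻¹ * x * g ∈ Z := by
        have : g⁻¹ * (x * g) ∈ Z := QuotientGroup.eq.1 hx.symm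
        rwa [← mul_assoc] at this
      have h3 := hc _ h1 (H41.conj_ne_one' hx1) (g⁻¹ * y * g) (H41.conj_invol' hy) (by
        calc g⁻¹ * y * g * (g⁻¹ * x * g) = g⁻¹ * (y * x) * g := by group
          _ = _ := by rw [hxy]; group)
      symm
      exact QuotientGroup.eq.2 (show g⁻¹ * (y * g) ∈ Z by rwa [← mul_assoc])
  have hcomm : ∀ x y : G, x * x = 1 → y * y = 1 → x * y * (x * y) = 1 → x * y = y * x := by
    intro x y hx hy hxy
    rw [eq_inv_of_mul_eq_one_left hxy, mul_inv_rev, inv_eq_of_mul_eq_one_left hx,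
      inv_eq_of_mul_eq_one_left hy]
  -- two points have the same stabilizer or no common nontrivial fixing element
  have hsame : ∀ (α β : G ⧸ Z) (x : G), x ≠ 1 → x • α = α → x • β = β → ∀ y : G, y • α = α →
      y • β = β := fun α β x hx1 h1 h3 y hy =>
    hcm β x y h3 hx1 (hsq α y hy) (hcomm _ _ (hsq α y hy) (hsq α x h1)
      (hsq α _ (by rw [mul_smul, h1, hy])))
  intro n I J hn hp
  let i0 : Fin n := ⟨0, by omega⟩
  by_cases hall : ∀ j, ∀ y : G, y • I i0 = I i0 → y • I j = I j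
  · obtain ⟨g, hg, -⟩ := hp i0 ⟨1, by omega⟩ (by simp [i0, Fin.ext_iff])
    refine ⟨g, fun j => ?_⟩
    by_cases hj : i0 = j
    · rw [← hj]; exact hg
    obtain ⟨g', h1, h3⟩ := hp i0 j hj
    have := hall j (g'⁻¹ * g) (by rw [mul_smul, hg, ← h1, inv_smul_smul])
    rw [mul_smul, inv_smul_eq_iff] at this
    rw [this, h3]
  push Not at hall
  obtain ⟨j0, y0, hy0, hy0'⟩ := hall
  have hij : i0 ≠ j0 := by rintro rfl; exact hy0' hy0
  obtain ⟨g, hg1, hg2⟩ := hp i0 j0 hij
  refine ⟨g, fun k => ?_⟩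
  by_cases hk1 : i0 = k
  · rw [← hk1]; exact hg1
  by_cases hk2 : j0 = k
  · rw [← hk2]; exact hg2
  obtain ⟨a, a1, a2⟩ := hp i0 k hk1
  obtain ⟨b, b1, b2⟩ := hp j0 k hk2
  have e1 : (g⁻¹ * a) • I i0 = I i0 := by rw [mul_smul, a1, ← hg1, inv_smul_smul]
  have e2 : (g⁻¹ * b) • I j0 = I j0 := by rw [mul_smul, b1, ← hg2, inv_smul_smul]
  have e3 : ((g⁻¹ * a) * (g⁻¹ * b)) • I k = I k := by
    rw [eq_inv_of_mul_eq_one_left (hsq _ _ e1), mul_smul, mul_smul g⁻¹ b, b2, ← a2, ← mul_smul g⁻¹,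
      inv_smul_smul]
  by_cases ha : g⁻¹ * a = 1
  · rw [← a2, eq_of_inv_mul_eq_one ha]
  by_cases hb : g⁻¹ * b = 1
  · rw [← b2, eq_of_inv_mul_eq_one hb]
  exfalso
  have e4 := hcomm _ _ (hsq _ _ e1) (hsq _ _ e2) (hsq _ _ e3)
  exact hy0' (hsame _ _ _ ha e1 (hcm _ _ _ e2 hb (hsq _ _ e1) e4) y0 hy0)

end Cfsg.Agent.H50.Bin
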