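import Cfsg.Agent.H50.U3J
import Cfsg.Agent.H50.Bin

/-! Binary actions of `PSU₃(q)`, `q` even. -/

set_option autoImplicit false
set_option linter.unusedSectionVars false

namespace Cfsg.Agent.H50.U3J

open Matrix Cfsg.Agent.H10 Cfsg.Agent.H50.Bin
open Cfsg.Agent.H42 (UM)

variable {F : Type*} [Field F] [Fintype F] {q : ℕ} [hF : Fact (Fintype.card F = q ^ 2)] [CharP F 2]
  {X : Type*} [MulAction (SJ F q) X]

local notation "σ" => H10.cj F q

variable (F q X) in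
/-- what is used about the action -/
structure HU : Prop where
  fl : FL (SJ F q) X
  sc : ∀ g : SJ F q, IsSc g → ∀ α : X, g • α = α
  inv : ∀ (d : SJ F q) (α : X), tt * d * tt = d⁻¹ → ¬ IsSc (d * d) → d • α = α →
    (tt : SJ F q) • α = α
  nt : ∀ α : X, ∃ g : SJ F q, (g * uu (zz 1 (map_one _)) * g⁻¹) • α ≠ α

variable (F q) in
/-- the centre of the root group fixes the point -/
def ZF (α : X) : Prop := ∀ a : UM F q, a.x = 0 → (uu a : SJ F q) • α = α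

theorem BB_conj_x {g : SJ F q} (hg : g ∈ BB F q) {a : UM F q} (ha : a.x = 0) :
    ∃ b : UM F q, b.x = 0 ∧ g * uu a * g⁻¹ = uu b := by
  obtain ⟨r, l, rfl⟩ := BB_decomp hg
  have h1 : (act l a).x = 0 := by show _ * a.x = 0; rw [ha, mul_zero]
  refine ⟨act l a, h1, ?_⟩
  calc _ = uu r * (dd l * uu a * (dd l)⁻¹) * (uu r)⁻¹ := by group
    _ = _ := by rw [dd_conj_uu, ← map_mul, x_zero_comm h1, map_mul, mul_inv_cancel_right]

theorem ZF.smul {α : X} (h : ZF F q α) {g : SJ F q} (hg : g ∈ BB F q) : ZF F q (g • α) := by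
  intro a ha
  obtain ⟨b, hb, e⟩ := BB_conj_x (inv_mem hg) ha
  rw [inv_inv] at e
  exact fix_of_conj_fix (e ▸ h b hb)

theorem ZF.moved {α : X} (h : ZF F q α) {g : SJ F q} (hg : g • α = α) {r : UM F q}
    (hr : (uu r * tt)⁻¹ * g ∈ BB F q) : ZF F q ((tt : SJ F q) • (uu r)⁻¹ • α) := by
  have := h.smul hr
  rwa [mul_smul, hg, _root_.mul_inv_rev, tt_inv, mul_smul] at this

theorem dd_tt_fix {α : X} (h1 : ZF F q α) (h2 : ZF F q ((tt : SJ F q) • α)) {c : F} (hc : σ c = c)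
    (h : c ≠ 0) : (dd (Units.mk0 c h) * tt : SJ F q) • α = α := by
  rw [← zz_tt_zz hc h, mul_smul, mul_smul, mul_smul, mul_smul, h1 _ rfl, h2 _ rfl,
    ← mul_smul (tt : SJ F q), tt_mul_tt, one_smul, h1 _ rfl]

theorem tt_fix {α : X} (h1 : ZF F q α) (h2 : ZF F q ((tt : SJ F q) • α)) :
    (tt : SJ F q) • α = α := by
  have := dd_tt_fix h1 h2 (map_one _) one_ne_zero
  rwa [Units.mk0_one, map_one, one_mul] at this

theorem dd_fix {α : X} (h1 : ZF F q α) (h2 : (tt : SJ F q) • α = α) {c : F} (hc : σ c = c)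
    (h : c ≠ 0) : (dd (Units.mk0 c h) : SJ F q) • α = α := by
  have := dd_tt_fix h1 (by rwa [h2]) hc h
  rwa [mul_smul, h2] at this

theorem ZF.of_x {α : X} (h : ZF F q α) {a b : UM F q} (ha : (uu a : SJ F q) • α = α)
    (e : b.x = a.x) : (uu b : SJ F q) • α = α := by
  have := h (a⁻¹ * b) (by simp [e])
  rwa [map_mul, mul_smul, map_inv, inv_smul_eq_iff, ha] at this

theorem conj_fix_self {G : Type*} [Group G] [MulAction G X] {g u : G} {α : X} (hg : g • α = α)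
    (h : u • α = α) : (g * u * g⁻¹) • α = α := by
  have := conj_fix (g := g) h
  rwa [hg] at this

/-- the root elements attached to a stabilizer element outside the Borel subgroup fix the point -/
theorem root_fix (hq : q ≠ 2) {α : X} (h1 : ZF F q α) (h2 : (tt : SJ F q) • α = α) {g : SJ F q}
    (hg : g • α = α) (hB : g ∉ BB F q) {c : F} (hc : σ c = c) {a : UM F q}
    (ha : a.x = c * (mm g 1 0 / mm g 2 0)) : (uu a : SJ F q) • α = α := by
  by_cases hc0 : c = 0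
  · exact h1 a (by rw [ha, hc0, zero_mul])
  obtain ⟨r, hx, -, hr⟩ := not_BB_decomp hB
  obtain ⟨l, hl, hl0, hl1⟩ := exists_fixed_ne (F := F) hq
  have h3 := h1.smul (inv_mem (uu_mem r))
  have h4 := dd_fix h3 (tt_fix h3 (h1.moved hg hr)) hl hl0
  have h5 := dd_fix h1 h2 hl hl0
  have h6 : (uu (r * act (Units.mk0 l hl0) r⁻¹) : SJ F q) • α = α := by
    rw [map_mul, ← dd_conj_uu, mul_smul, mul_smul, mul_smul, inv_smul_eq_iff.2 h5.symm, map_inv, h4,
      smul_inv_smul]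
  have hl2 : 1 + l ≠ 0 := by grind
  have h7 := conj_fix_self (dd_fix h1 h2 (c := c / (1 + l)) (by rw [map_div₀, map_add, map_one, hc, hl])
    (div_ne_zero hc0 hl2)) h6
  rw [dd_conj_uu] at h7
  refine h1.of_x h7 ?_
  rw [ha, ← hx]
  simp [act, hc, hl]
  grind

theorem span_aux {b : F} (hb : b + σ b ≠ 0) (w : F) :
    ∃ c d : F, σ c = c ∧ σ d = d ∧ w = c * b + d := by
  obtain ⟨c, hc⟩ : ∃ c, c * (b + σ b) = w + σ w := ⟨_, div_mul_cancel₀ _ hb⟩
  have h1 := congrArg σ hc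
  simp only [map_mul, map_add, cj_cj] at h1
  have h2 : σ c = c := by grind
  refine ⟨c, w + c * b, h2, ?_, by grind⟩
  rw [map_add, map_mul, h2]
  grind

theorem HU.row_zero (h : HU F q X) (hq : q ≠ 2) {α : X} (h1 : ZF F q α)
    (h2 : (tt : SJ F q) • α = α) {g : SJ F q} (hg : g • α = α) : mm g 1 0 = 0 := by
  by_contra h10
  have hB : g ∉ BB F q := fun e => h10 e.1
  have h20 : mm g 2 0 ≠ 0 := fun e => hB (mem_BB.2 e)
  have c00 := col g 0 0
  simp [Jm] at c00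
  have s10 := (cj_ne_zero (q := q)).2 h10
  have s20 := (cj_ne_zero (q := q)).2 h20
  have h00 : mm g 0 0 ≠ 0 := by
    intro e
    rw [e, map_zero] at c00
    grind
  have hB' : tt * g ∉ BB F q := fun e => h00 (by simpa [tt_mul_apply] using mem_BB.1 e)
  have hg' : (tt * g) • α = α := by rw [mul_smul, hg, h2]
  have hQ : ∀ a : UM F q, (uu a : SJ F q) • α = α := by
    intro a
    obtain ⟨c, d, hc, hd, e⟩ := span_aux (q := q) (b := mm g 0 0 / mm g 2 0)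
      (by rw [map_div₀]; grind) (a.x * mm g 0 0 / mm g 1 0)
    obtain ⟨a1, ha1⟩ := H42.UM.exists_x (q := q) (c * (mm g 1 0 / mm g 2 0))
    obtain ⟨a2, ha2⟩ := H42.UM.exists_x (q := q) (d * (mm (tt * g) 1 0 / mm (tt * g) 2 0))
    have k1 := root_fix hq h1 h2 hg hB hc ha1
    have k2 := root_fix hq h1 h2 hg' hB' hd ha2
    refine h1.of_x (a := a1 * a2) (by rw [map_mul, mul_smul, k2, k1]) ?_
    rw [H42.UM.mul_x, ha1, ha2, tt_mul_apply, tt_mul_apply]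
    show _ = _ + _ * (mm g 1 0 / mm g 0 0)
    clear ha1 ha2
    grind
  obtain ⟨x, hx⟩ := h.nt α
  apply hx
  by_cases hxB : x ∈ BB F q
  · obtain ⟨b, -, e⟩ := BB_conj_x hxB (a := zz 1 (map_one _)) rfl
    rw [e]; exact hQ b
  · obtain ⟨r, -, -, hr⟩ := not_BB_decomp hxB
    obtain ⟨b, -, e⟩ := BB_conj_x hr (a := zz 1 (map_one _)) rfl
    have := conj_fix_self (g := uu r * tt) (by rw [mul_smul, h2, hQ]) (hQ b)
    rw [← e] at this
    convert this using 2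
    group

theorem HU.col_zero (h : HU F q X) (hq : q ≠ 2) {α : X} (h1 : ZF F q α)
    (h2 : (tt : SJ F q) • α = α) {g : SJ F q} (hg : g • α = α) :
    mm g 0 1 = 0 ∧ mm g 2 1 = 0 := by
  have key : ∀ g : SJ F q, g • α = α → mm g 2 1 = 0 := fun g hg => by
    have := h.row_zero hq h1 h2 (inv_smul_eq_iff.2 hg.symm)
    rw [inv_apply'] at this
    exact cj_eq_zero.1 this
  refine ⟨?_, key g hg⟩
  have := key (tt * g) (by rw [mul_smul, hg, h2])
  rwa [tt_mul_apply] at this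

theorem HU.not_tt (h : HU F q X) (hq : q ≠ 2) {α : X} (h1 : ZF F q α) : (tt : SJ F q) • α ≠ α := by
  intro h2
  obtain ⟨l, hl, hl0, hl1⟩ := exists_fixed_ne (F := F) hq
  obtain ⟨u1, hu1⟩ := H42.UM.exists_x (q := q) (1 : F)
  obtain ⟨u3, hu3⟩ := H42.UM.exists_x (q := q) ((1 + l) / l)
  obtain ⟨L, hL⟩ : ∃ L, L = Units.mk0 l hl0 := ⟨_, rfl⟩
  have hL' : (L : F) = l := by rw [hL]; rfl
  have hd : (dd L : SJ F q) • α = α := hL ▸ dd_fix h1 h2 hl hl0
  obtain ⟨g, g1, g2, g3⟩ := h.fl (dd L) (uu u1 * (dd L * dd L) * (uu u1)⁻¹)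
  have k1 := g1 α hd
  have k2 := g2 _ (conj_fix (by rw [mul_smul, hd, hd]))
  have k3 := g3 ((uu u3 : SJ F q) • α) (by
    have e1 : (uu u1 * (dd L * dd L) * (uu u1)⁻¹ * uu u3 : SJ F q) =
        uu (u1 * act L (act L (u1⁻¹ * u3))) * (dd L * dd L) := by
      rw [map_mul, ← dd_conj_uu, ← dd_conj_uu, map_mul, map_inv]; group
    have e2 : (uu ((act L u3)⁻¹ * (u1 * act L (act L (u1⁻¹ * u3)))) : SJ F q) • α = α :=
      h1 _ (by simp [act, hL', hl, hu1, hu3]; grind)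
    rw [map_mul, mul_smul, map_inv, inv_smul_eq_iff] at e2
    rw [← mul_smul, ← mul_smul, e1, dd_mul_uu, mul_smul, mul_smul, mul_smul, hd, hd, e2])
  obtain ⟨x, hx⟩ : ∃ x, x = (uu u1)⁻¹ * g * uu u1 := ⟨_, rfl⟩
  obtain ⟨y, hy⟩ : ∃ y, y = (dd L * uu u3)⁻¹ * g * uu u3 := ⟨_, rfl⟩
  obtain ⟨x1, x2⟩ := h.col_zero hq h1 h2 (g := x) (by
    rw [hx, mul_smul, mul_smul, k2, inv_smul_smul])
  obtain ⟨y1, y2⟩ := h.col_zero hq h1 h2 (g := y) (by
    rw [hy, mul_smul, mul_smul, k3, ← mul_smul (dd L), inv_smul_smul])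
  obtain ⟨z1, z2⟩ := h.col_zero hq h1 h2 k1
  have z3 := h.row_zero hq h1 h2 k1
  have ex : g * uu u1 = uu u1 * x := by rw [hx]; group
  have ey : g * uu u3 = dd L * uu u3 * y := by rw [hy]; group
  have a0 := congrArg (fun g => mm g 0 1) ex
  have a1 := congrArg (fun g => mm g 1 1) ex
  have a2 := congrArg (fun g => mm g 2 1) ex
  have b0 := congrArg (fun g => mm g 0 1) ey
  have b1 := congrArg (fun g => mm g 1 1) ey
  have c02 := col g 0 2
  simp [mul_apply', mm_uu, mm_dd, x1, x2, y1, y2, z1, z2, z3, hu1, hu3, hL', hl, Jm, hl0]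
    at a0 a1 a2 b0 b1 c02
  grind

theorem HU.mem_BB (h : HU F q X) (hq : q ≠ 2) {α : X} (h1 : ZF F q α) {g : SJ F q}
    (hg : g • α = α) : g ∈ BB F q := by
  by_contra hB
  obtain ⟨r, -, -, hr⟩ := not_BB_decomp hB
  have h3 := h1.smul (inv_mem (uu_mem r))
  exact h.not_tt hq h3 (tt_fix h3 (h1.moved hg hr))

theorem eq_dd {g : SJ F q} (h1 : g ∈ BB F q) (h2 : tt * g * tt ∈ BB F q) : ∃ l, g = dd l := by
  obtain ⟨a, l, rfl⟩ := BB_decomp h1
  obtain ⟨k1, k2⟩ := h2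
  have hl := (cj_ne_zero (q := q)).2 l.ne_zero
  rw [mul_tt_apply, tt_mul_apply, mul_apply'] at k1 k2
  simp [mm_uu, mm_dd, Fin.rev, hl] at k1 k2
  refine ⟨l, ?_⟩
  rw [show a = 1 from H42.UM.ext k1 k2, map_one, one_mul]

theorem eq_one_of_conj_mem {y : SJ F q} (hy : y ∉ BB F q) {a : UM F q}
    (h : y⁻¹ * uu a * y ∈ BB F q) : a = 1 := by
  obtain ⟨r, -, -, hr⟩ := not_BB_decomp hy
  have h1 := mul_mem (mul_mem hr h) (inv_mem hr)
  have e : (uu r * tt)⁻¹ * y * (y⁻¹ * uu a * y) * ((uu r * tt)⁻¹ * y)⁻¹ =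
      tt * uu (r⁻¹ * a * r) * tt := by
    rw [map_mul, map_mul, map_inv]
    nth_rewrite 3 [← tt_inv]
    group
  rw [e] at h1
  obtain ⟨k1, k2⟩ := h1
  rw [mul_tt_apply, tt_mul_apply] at k1 k2
  have h2 : r⁻¹ * a * r = 1 := H42.UM.ext k1 k2
  calc a = r * (r⁻¹ * a * r) * r⁻¹ := by group
    _ = 1 := by rw [h2]; group

theorem HU.norm_one (h : HU F q X) (hq : q ≠ 2) {α : X} (h1 : ZF F q α) {l : Fˣ}
    (hl : (dd l : SJ F q) • α = α) : (l : F) * σ l = 1 := by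
  by_contra hn
  have h2 := H41.R1.pow_fix hl (q + 1)
  rw [← map_pow] at h2
  obtain ⟨m, hm⟩ : ∃ m, m = l ^ (q + 1) := ⟨_, rfl⟩
  have hm1 : (m : F) = l * σ l := by rw [hm, mul_cj_eq_pow]; simp
  have hm2 : σ m = m := by rw [hm1, cj_norm]
  rw [← hm] at h2
  rw [← hm1] at hn
  refine h.not_tt hq h1 (h.inv _ α ?_ ?_ h2)
  · rw [tt_mul_dd, mul_assoc, tt_mul_tt, mul_one, ← map_inv]
    congr 1
    ext
    rw [coe_cjInv, hm2]; simp
  · rintro ⟨c, hc⟩
    have a0 := congrArg (fun M => M 0 0) hc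
    have a1 := congrArg (fun M => M 1 1) hc
    simp [mul_apply', mm_dd, hm2] at a0 a1
    grind

theorem HU.isSc_dd (h : HU F q X) (hq : q ≠ 2) {α : X} (h1 : ZF F q α) {l : Fˣ}
    (hl : (dd l : SJ F q) • α = α) : IsSc (dd l : SJ F q) := by
  have hn := h.norm_one hq h1 hl
  refine U3J.isSc_dd hn ?_
  by_contra h3
  have l0 := l.ne_zero
  have hs : σ l = (l : F)⁻¹ := eq_inv_of_mul_eq_one_right hn
  obtain ⟨β, hβ⟩ : ∃ β : F, β = (l : F) ^ 3 + 1 := ⟨_, rfl⟩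
  have hβ' : σ β = (l : F)⁻¹ ^ 3 + 1 := by rw [hβ, map_add, map_pow, map_one, hs]
  have β0 : β ≠ 0 := by grind
  have β1 := (cj_ne_zero (q := q)).2 β0
  let u1 : UM F q := ⟨β, σ β, by rw [cj_cj]; grind⟩
  obtain ⟨u2, hu2⟩ := H42.UM.exists_x (q := q) (σ β)⁻¹
  obtain ⟨s, hs'⟩ : ∃ s : SJ F q, s = tt * uu (zz (β * σ β) (cj_norm β)) * tt := ⟨_, rfl⟩
  obtain ⟨x, hx⟩ : ∃ x : SJ F q, x = tt * uu u1 * tt * uu u2 := ⟨_, rfl⟩
  have hM : s * uu (zz 1 (map_one _)) * dd l * x = x * (dd l * dd l)⁻¹ := by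
    rw [eq_mul_inv_iff_mul_eq, hs', hx]
    apply mm_inj
    ext i j
    have := u2.h
    simp only [mul_apply', mm_uu, mm_dd, mm_tt]
    fin_cases i <;> fin_cases j <;> simp [zz, u1, hu2, hs, cj_cj] <;> grind
  have ht : (tt : SJ F q) * dd l = dd l * tt := by
    rw [tt_mul_dd]
    congr 2
    ext
    rw [coe_cjInv, hs, inv_inv]
  have hl' : (dd l : SJ F q) • (tt : SJ F q) • α = (tt : SJ F q) • α := by
    rw [← mul_smul, ← ht, mul_smul, hl]
  obtain ⟨g, g1, g2, g3⟩ := h.fl s (s * uu (zz 1 (map_one _)) * dd l)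
  have k1 := g1 ((tt : SJ F q) • α) (by
    rw [hs', mul_smul, mul_smul, ← mul_smul (tt : SJ F q) tt, tt_mul_tt, one_smul, h1 _ rfl])
  have k2 : ∀ γ : X, (dd l : SJ F q) • γ = γ → (x⁻¹ * g * x) • γ = γ := fun γ hγ => by
    rw [mul_smul, mul_smul, g2 (x • γ), inv_smul_smul]
    rw [← mul_smul, hM, mul_smul]
    congr 1
    rw [inv_smul_eq_iff, mul_smul, hγ, hγ]
  have k3 := g3 α (by rw [mul_smul, mul_smul, hl, h1 _ rfl])
  have key : ∀ g : SJ F q, g • (tt : SJ F q) • α = (tt : SJ F q) • α → tt * g * tt ∈ BB F q :=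
    fun g hg => h.mem_BB hq h1 (by
      rw [mul_smul, mul_smul, hg, ← mul_smul, tt_mul_tt, one_smul])
  obtain ⟨m, hm⟩ := eq_dd (h.mem_BB hq h1 (k2 α hl)) (key _ (k2 _ hl'))
  have k4 : tt * (uu (u2 * act m u2⁻¹) * dd m) * tt ∈ BB F q := by
    have := mul_mem (mul_mem (inv_mem (uu_mem u1)) (key g k1)) (uu_mem u1)
    convert this using 1
    rw [map_mul, ← dd_conj_uu, ← hm, hx, map_inv]
    have := tt_mul_tt (F := F) (q := q)
    calc _ = (tt * tt⁻¹) * (uu u1)⁻¹ * tt⁻¹ * g * tt * uu u1 * (tt * tt) := by group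
      _ = _ := by rw [tt_inv, this]; group
  have k5 : σ m ^ 2 = m := by
    have := k4.1
    have m0 := m.ne_zero
    have m1 := (cj_ne_zero (q := q)).2 m0
    rw [mul_tt_apply, tt_mul_apply, mul_apply', mm_uu, mm_dd] at this
    simp [Fin.rev, act, hu2, m1] at this
    field_simp at this
    linear_combination -this
  have k6 : IsSc g := by
    have := (isSc_dd_of k5).conj x
    rw [← hm] at this
    convert this using 1
    group
  have k7 := (h.mem_BB hq h1 (k3.symm.trans (h.sc g k6 α))).2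
  rw [hs', mul_tt_apply, tt_mul_apply] at k7
  exact mul_ne_zero β0 β1 k7

theorem HU.decomp (h : HU F q X) (hq : q ≠ 2) {α : X} (h1 : ZF F q α) {g : SJ F q}
    (hg : g • α = α) : ∃ (a : UM F q) (d : SJ F q), IsSc d ∧ g = uu a * d := by
  obtain ⟨a, l, rfl⟩ := BB_decomp (h.mem_BB hq h1 hg)
  refine ⟨a, _, ?_, rfl⟩
  by_cases hl : σ l ^ 2 = l
  · exact isSc_dd_of hl
  have l0 := l.ne_zero
  obtain ⟨v, hv⟩ := H42.UM.exists_x (q := q) (a.x * l / (l + σ l ^ 2))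
  have h2 := h1.smul (inv_mem (uu_mem v))
  have h3 := conj_fix' (g := uu v) hg
  have e : (uu v)⁻¹ * (uu a * dd l) * uu v = uu (v⁻¹ * a * act l v) * dd l := by
    rw [map_mul, map_mul, ← dd_conj_uu, map_inv]; group
  have h4 := h2 (v⁻¹ * a * act l v)⁻¹ (by simp [act, hv]; grind)
  rw [map_inv, inv_smul_eq_iff] at h4
  rw [e, mul_smul] at h3
  exact h.isSc_dd hq h2 (MulAction.injective _ (h3.trans h4))

theorem exists_cube_ne (hq : q ≠ 2) : ∃ l : F, σ l ^ 3 ≠ l ^ 3 := by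
  by_contra hc
  push Not at hc
  obtain ⟨d, hd⟩ := exists_cj_ne F q
  obtain ⟨l, hl, hl0, hl1⟩ := exists_fixed_ne (F := F) hq
  have h1 := hc d
  have h2 := hc (d + 1)
  have h3 := hc (d + l)
  rw [map_add, map_one] at h2
  rw [map_add, hl] at h3
  grind

theorem exists_cube (hq : q ≠ 2) {a : UM F q} (ha : a.x ≠ 0) :
    ∃ y : SJ F q, y ∉ BB F q ∧ y ^ 3 = 1 ∧ (uu a * y) ^ 3 = 1 := by
  obtain ⟨l, hl⟩ := exists_cube_ne (F := F) hq
  have l0 : l ≠ 0 := by rintro rfl; simp at hl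
  have l1 := (cj_ne_zero (q := q)).2 l0
  have a1 := (cj_ne_zero (q := q)).2 ha
  have b0 : a.y ≠ 0 := by
    intro e
    have := a.h
    rw [e, map_zero, add_zero] at this
    exact mul_ne_zero ha a1 this.symm
  have b1 := (cj_ne_zero (q := q)).2 b0
  have hτ : σ l ^ 2 / l + l ^ 2 / σ l ≠ 0 := by grind
  obtain ⟨c, hc⟩ : ∃ c, c * (σ l ^ 2 / l + l ^ 2 / σ l) = a.y / a.x * (σ a.y / σ a.x) :=
    ⟨_, div_mul_cancel₀ _ hτ⟩
  have hc1 := congrArg σ hc
  simp only [map_mul, map_add, map_div₀, map_pow, cj_cj] at hc1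
  have hc2 : σ c = c := mul_right_cancel₀ hτ (by rw [hc, add_comm, hc1, mul_comm])
  have c0 : c ≠ 0 := by
    rintro rfl
    exact mul_ne_zero (div_ne_zero b0 ha) (div_ne_zero b1 a1) (by rw [← hc, zero_mul])
  let r : UM F q := ⟨σ a.y / σ a.x, c * σ l ^ 2 / l, by
    simp only [map_mul, map_div₀, map_pow, cj_cj, hc2]; grind⟩
  refine ⟨dd (Units.mk0 (c * l) (mul_ne_zero c0 l0)) * tt * uu r, fun e => ?_,
    pow_three_of_trace ?_, pow_three_of_trace ?_⟩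
  · have := e.2
    simp [mul_apply', mm_uu, mm_dd, mm_tt, hc2, c0, l1] at this
  · simp [mul_apply', mm_uu, mm_dd, mm_tt, hc2, r]
    grind
  · simp [mul_apply', mm_uu, mm_dd, mm_tt, hc2, r, cj_cj]
    grind

theorem HU.x_zero (h : HU F q X) (hq : q ≠ 2) {α : X} (h1 : ZF F q α) {a : UM F q}
    (ha : (uu a : SJ F q) • α = α) : a.x = 0 := by
  by_contra h0
  obtain ⟨y, hy, y3, uy3⟩ := exists_cube hq h0
  have e1 : (uu a)⁻¹ = y * uu a * y⁻¹ * (y⁻¹ * uu a * y) := by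
    have e : y⁻¹ * y⁻¹ = y := by
      calc y⁻¹ * y⁻¹ = y * (y ^ 3)⁻¹ := by group
        _ = y := by rw [y3]; group
    apply inv_eq_of_mul_eq_one_right
    calc _ = uu a * y * uu a * (y⁻¹ * y⁻¹) * uu a * y := by group
      _ = (uu a * y) ^ 3 := by rw [e, pow_three]; group
      _ = 1 := uy3
  obtain ⟨g, g1, g2, g3⟩ := h.fl (uu a)⁻¹ (y * uu a * y⁻¹)
  have k1 := g1 α (inv_smul_eq_iff.2 ha.symm)
  have k2 := g2 _ (conj_fix ha)
  have k3 := g3 (y⁻¹ • α) (by rw [e1, mul_smul, conj_fix' ha])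
  obtain ⟨b, d, hd, rfl⟩ := h.decomp hq h1 k1
  rw [mul_smul, h.sc d hd] at k2 k3
  have k4 : b = 1 := eq_one_of_conj_mem hy (h.mem_BB hq h1 (by
    rw [mul_smul, mul_smul, k2, inv_smul_smul]))
  rw [k4, map_one, one_smul, eq_inv_smul_iff] at k3
  have k5 : a = 1 := eq_one_of_conj_mem (y := y⁻¹) (fun e => hy (inv_mem_iff.1 e))
    (h.mem_BB hq h1 (by rw [mul_smul, mul_smul, k3, inv_smul_smul]))
  exact h0 (by rw [k5]; rfl)

theorem HU.isSc_sq (h : HU F q X) (hq : q ≠ 2) {α : X} (h1 : ZF F q α) {g : SJ F q}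
    (hg : g • α = α) : IsSc (g * g) := by
  obtain ⟨a, d, hd, rfl⟩ := h.decomp hq h1 hg
  rw [mul_smul, h.sc d hd] at hg
  have e : uu a * d * (uu a * d) = d * d := by
    calc _ = uu a * (d * uu a) * d := by group
      _ = uu (a * a) * (d * d) := by rw [← hd.comm, map_mul]; group
      _ = _ := by rw [H42.UM.sq_eq_one_iff.2 (h.x_zero hq h1 hg), map_one, one_mul]
  obtain ⟨c, hc⟩ := hd
  exact ⟨c * c, by rw [e, mm_mul, hc]; simp [smul_smul]⟩

end Cfsg.Agent.H50.U3J
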