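import Cfsg.Agent.H42.U34

/-! `SU₃(q)`, `q` even, for the antidiagonal form: explicit root elements, torus, Weyl element. -/

set_option autoImplicit false
set_option linter.unusedSectionVars false

namespace Cfsg.Agent.H50.U3J

open Matrix Cfsg.Agent.H10
open Cfsg.Agent.H42 (UM)
open scoped MatrixGroups

variable {F : Type*} [Field F] [Fintype F] {q : ℕ} [hF : Fact (Fintype.card F = q ^ 2)] [CharP F 2]

local notation "σ" => H10.cj F q

/-- the antidiagonal Gram matrix -/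
def Jm (F : Type*) [Field F] : Matrix (Fin 3) (Fin 3) F := !![0, 0, 1; 0, 1, 0; 1, 0, 0]

/-- the underlying matrix -/
def sl (g : SL(3, F)) : Matrix (Fin 3) (Fin 3) F := g.1

theorem sl_mul (g h : SL(3, F)) : sl (g * h) = sl g * sl h := rfl
theorem sl_one : sl (1 : SL(3, F)) = 1 := rfl

theorem Jm_mul_apply (M : Matrix (Fin 3) (Fin 3) F) (i j : Fin 3) : (Jm F * M) i j = M i.rev j := by
  rw [Matrix.mul_apply, Fin.sum_univ_three]; fin_cases i <;> simp [Jm] <;> rfl

theorem mul_Jm_apply (M : Matrix (Fin 3) (Fin 3) F) (i j : Fin 3) : (M * Jm F) i j = M i j.rev := by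
  rw [Matrix.mul_apply, Fin.sum_univ_three]; fin_cases j <;> simp [Jm] <;> rfl

variable (F q) in
/-- the special unitary group of the antidiagonal form -/
def SJ : Subgroup SL(3, F) where
  carrier := {g | (sl g)ᵀ * Jm F * (sl g).map σ = Jm F}
  mul_mem' := by
    intro a b ha hb
    simp only [Set.mem_setOf_eq, sl_mul, transpose_mul, Matrix.map_mul] at *
    calc _ = (sl b)ᵀ * ((sl a)ᵀ * Jm F *
          (sl a).map σ) * (sl b).map σ := by
            simp only [Matrix.mul_assoc]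
      _ = _ := by rw [ha, hb]
  one_mem' := by simp [sl_one]
  inv_mem' := by
    intro a ha
    simp only [Set.mem_setOf_eq] at *
    have h1 : (sl a) * sl a⁻¹ = 1 := by
      rw [← sl_mul, mul_inv_cancel, sl_one]
    calc _ = ((sl a) * sl a⁻¹)ᵀ * Jm F *
          ((sl a) * sl a⁻¹).map σ := by
            conv_lhs => rw [← ha]
            simp only [transpose_mul, Matrix.map_mul, Matrix.mul_assoc]
      _ = _ := by rw [h1]; simp

/-- the matrix of an element -/
def mm (g : SJ F q) : Matrix (Fin 3) (Fin 3) F := sl g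

theorem mm_mul (g h : SJ F q) : mm (g * h) = mm g * mm h := rfl
theorem mm_one : mm (1 : SJ F q) = 1 := rfl
theorem mm_det (g : SJ F q) : (mm g).det = 1 := g.1.2
theorem mm_form (g : SJ F q) : (mm g)ᵀ * Jm F * (mm g).map σ = Jm F := g.2
theorem mm_inj {g h : SJ F q} (e : mm g = mm h) : g = h := Subtype.ext (Subtype.ext e)
theorem mm_pow (g : SJ F q) (n : ℕ) : mm (g ^ n) = mm g ^ n := by
  induction n with
  | zero => rw [pow_zero, pow_zero, mm_one]
  | succ n ih => rw [pow_succ, pow_succ, mm_mul, ih]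

instance : Finite (SJ F q) := Finite.of_injective mm fun _ _ => mm_inj

theorem mul_apply' (g h : SJ F q) (i j : Fin 3) :
    mm (g * h) i j = mm g i 0 * mm h 0 j + mm g i 1 * mm h 1 j + mm g i 2 * mm h 2 j := by
  rw [mm_mul, Matrix.mul_apply, Fin.sum_univ_three]

theorem col (g : SJ F q) (i j : Fin 3) :
    mm g 0 i * σ (mm g 2 j) + mm g 1 i * σ (mm g 1 j) + mm g 2 i * σ (mm g 0 j) = Jm F i j := by
  rw [← mm_form g, Matrix.mul_apply, Fin.sum_univ_three]
  simp only [mul_Jm_apply, transpose_apply, map_apply]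
  show _ = mm g 2 i * _ + mm g 1 i * _ + mm g 0 i * _
  ring

theorem Jm_mul_Jm : Jm F * Jm F = 1 := by
  ext i j; fin_cases i <;> fin_cases j <;> simp [Jm, Matrix.mul_apply, Fin.sum_univ_three]

theorem mm_inv (g : SJ F q) : mm g⁻¹ = Jm F * ((mm g).map σ)ᵀ * Jm F := by
  have h1 : mm g * mm g⁻¹ = 1 := by rw [← mm_mul, mul_inv_cancel, mm_one]
  have h2 : ((mm g).map σ)ᵀ * Jm F * mm g = Jm F := by
    have := congrArg transpose (mm_form g)
    rw [transpose_mul, transpose_mul, transpose_transpose, ← Matrix.mul_assoc] at this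
    have hJ : (Jm F)ᵀ = Jm F := by
      ext i j; fin_cases i <;> fin_cases j <;> simp [Jm]
    rwa [hJ] at this
  calc mm g⁻¹ = Jm F * (((mm g).map σ)ᵀ * Jm F * mm g) * mm g⁻¹ := by
        rw [h2, Jm_mul_Jm, Matrix.one_mul]
    _ = Jm F * ((mm g).map σ)ᵀ * Jm F * (mm g * mm g⁻¹) := by simp only [Matrix.mul_assoc]
    _ = _ := by rw [h1, Matrix.mul_one]

theorem inv_apply' (g : SJ F q) (i j : Fin 3) : mm g⁻¹ i j = σ (mm g j.rev i.rev) := by
  rw [mm_inv, mul_Jm_apply, Jm_mul_apply]; rfl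

/-- an element from its matrix -/
def mkJ (M : Matrix (Fin 3) (Fin 3) F) (h : Mᵀ * Jm F * M.map σ = Jm F) (hd : M.det = 1) : SJ F q :=
  ⟨⟨M, hd⟩, h⟩

/-- root elements -/
def uu0 (a : UM F q) : SJ F q := mkJ !![1, σ a.x, a.y; 0, 1, a.x; 0, 0, 1] (by
    have := a.h
    ext i j
    fin_cases i <;> fin_cases j <;> simp [Jm, Matrix.mul_apply, Fin.sum_univ_three, cj_cj] <;> grind)
  (by simp [det_fin_three])

theorem mm_uu0 (a : UM F q) : mm (uu0 a) = !![1, σ a.x, a.y; 0, 1, a.x; 0, 0, 1] := rfl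

/-- the root group -/
def uu : UM F q →* SJ F q := MonoidHom.mk' uu0 fun a b => mm_inj (by
  ext i j
  rw [mul_apply', mm_uu0, mm_uu0, mm_uu0]
  fin_cases i <;> fin_cases j <;> simp <;> ring)

theorem mm_uu (a : UM F q) : mm (uu a) = !![1, σ a.x, a.y; 0, 1, a.x; 0, 0, 1] := rfl

theorem uu_injective : Function.Injective (uu : UM F q → SJ F q) := by
  intro a b h
  have h1 := congrArg (fun g => mm g 1 2) h
  have h2 := congrArg (fun g => mm g 0 2) h
  exact H42.UM.ext h1 h2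

/-- torus elements -/
def dd0 (l : Fˣ) : SJ F q := mkJ !![(l : F), 0, 0; 0, σ l / l, 0; 0, 0, (σ l)⁻¹] (by
    have h1 := l.ne_zero
    have h2 := (cj_ne_zero (q := q)).2 h1
    ext i j
    fin_cases i <;> fin_cases j <;> simp [Jm, Matrix.mul_apply, Fin.sum_univ_three, cj_cj] <;> grind)
  (by
    have h1 := l.ne_zero
    have h2 := (cj_ne_zero (q := q)).2 h1
    simp [det_fin_three]; grind)

theorem mm_dd0 (l : Fˣ) :
    mm (dd0 l : SJ F q) = !![(l : F), 0, 0; 0, σ l / l, 0; 0, 0, (σ l)⁻¹] := rfl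

/-- the torus -/
def dd : Fˣ →* SJ F q := MonoidHom.mk' dd0 fun a b => mm_inj (by
  have h1 := a.ne_zero
  have h2 := (cj_ne_zero (q := q)).2 h1
  have h3 := b.ne_zero
  have h4 := (cj_ne_zero (q := q)).2 h3
  ext i j
  rw [mul_apply', mm_dd0, mm_dd0, mm_dd0]
  fin_cases i <;> fin_cases j <;> simp <;> grind)

theorem mm_dd (l : Fˣ) :
    mm (dd l : SJ F q) = !![(l : F), 0, 0; 0, σ l / l, 0; 0, 0, (σ l)⁻¹] := rfl

/-- the Weyl element -/
def tt : SJ F q := mkJ (Jm F) (by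
    ext i j
    fin_cases i <;> fin_cases j <;> simp [Jm, Matrix.mul_apply, Fin.sum_univ_three])
  (by simp [det_fin_three, Jm]; grind)

theorem mm_tt : mm (tt : SJ F q) = !![0, 0, 1; 0, 1, 0; 1, 0, 0] := rfl

theorem tt_mul_tt : (tt : SJ F q) * tt = 1 := mm_inj Jm_mul_Jm

theorem tt_inv : (tt : SJ F q)⁻¹ = tt := inv_eq_of_mul_eq_one_left tt_mul_tt

theorem tt_ne_one : (tt : SJ F q) ≠ 1 := fun h => by
  have := congrArg (fun g => mm g 0 0) h
  simp [mm_tt, mm_one] at this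

theorem tt_mul_apply (g : SJ F q) (i j : Fin 3) : mm (tt * g) i j = mm g i.rev j := by
  rw [mul_apply', mm_tt]; fin_cases i <;> simp <;> rfl

theorem mul_tt_apply (g : SJ F q) (i j : Fin 3) : mm (g * tt) i j = mm g i j.rev := by
  rw [mul_apply', mm_tt]; fin_cases j <;> simp <;> rfl

/-- the action of the torus on the root group -/
def act (l : Fˣ) (a : UM F q) : UM F q := ⟨σ l ^ 2 / l * a.x, l * σ l * a.y, by
  have h1 := l.ne_zero
  have h2 := (cj_ne_zero (q := q)).2 h1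
  have := a.h
  simp only [map_mul, map_div₀, map_pow, cj_cj]
  grind⟩

theorem dd_mul_uu (l : Fˣ) (a : UM F q) : dd l * uu a = uu (act l a) * dd l := mm_inj (by
  have h1 := l.ne_zero
  have h2 := (cj_ne_zero (q := q)).2 h1
  ext i j
  rw [mul_apply', mul_apply', mm_dd, mm_uu, mm_uu]
  fin_cases i <;> fin_cases j <;> simp [act, cj_cj] <;> grind)

theorem dd_conj_uu (l : Fˣ) (a : UM F q) : dd l * uu a * (dd l)⁻¹ = uu (act l a) := by
  rw [dd_mul_uu, mul_inv_cancel_right]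

/-- the unit `σ(l)⁻¹` -/
def cjInv (l : Fˣ) : Fˣ := (Units.map (σ : F →* F) l)⁻¹

theorem coe_cjInv (l : Fˣ) : ((cjInv (q := q) l : Fˣ) : F) = (σ l)⁻¹ := by simp [cjInv]

theorem tt_mul_dd (l : Fˣ) : (tt : SJ F q) * dd l = dd (cjInv (q := q) l) * tt := mm_inj (by
  have h1 := l.ne_zero
  have h2 := (cj_ne_zero (q := q)).2 h1
  ext i j
  rw [tt_mul_apply, mul_tt_apply, mm_dd, mm_dd, coe_cjInv]
  fin_cases i <;> fin_cases j <;> simp [cj_cj, Fin.rev] <;> grind)

/-- scalar elements -/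
def IsSc (g : SJ F q) : Prop := ∃ c : F, mm g = c • (1 : Matrix (Fin 3) (Fin 3) F)

theorem isSc_dd {l : Fˣ} (h1 : (l : F) * σ l = 1) (h3 : (l : F) ^ 3 = 1) : IsSc (dd l : SJ F q) := by
  refine ⟨l, ?_⟩
  have h2 := l.ne_zero
  ext i j
  rw [mm_dd]
  fin_cases i <;> fin_cases j <;> simp <;> grind

theorem isSc_dd_of {l : Fˣ} (h : σ l ^ 2 = l) : IsSc (dd l : SJ F q) := by
  have h2 := congrArg σ h
  have h1 := l.ne_zero
  rw [map_pow, cj_cj] at h2
  apply isSc_dd <;> grind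

theorem IsSc.comm {g : SJ F q} (h : IsSc g) (x : SJ F q) : x * g = g * x := by
  obtain ⟨c, hc⟩ := h
  apply mm_inj
  rw [mm_mul, mm_mul, hc]
  simp

theorem IsSc.conj {g : SJ F q} (h : IsSc g) (x : SJ F q) : IsSc (x * g * x⁻¹) := by
  rw [h.comm, mul_inv_cancel_right]; exact h

theorem IsSc.pow_three {g : SJ F q} (h : IsSc g) : g ^ 3 = 1 := by
  obtain ⟨c, hc⟩ := h
  have := mm_det g
  rw [hc, det_smul, det_one, mul_one, Fintype.card_fin] at this
  apply mm_inj
  rw [mm_pow, hc, smul_pow, this, one_pow, one_smul, mm_one]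

variable (F q) in
/-- the stabilizer of the first basis line -/
def BB : Subgroup (SJ F q) where
  carrier := {g | mm g 1 0 = 0 ∧ mm g 2 0 = 0}
  mul_mem' := by
    rintro a b ⟨h1, h2⟩ ⟨h3, h4⟩
    constructor <;> rw [mul_apply'] <;> simp [*]
  one_mem' := by simp [mm_one]
  inv_mem' := by
    rintro a ⟨h1, h2⟩
    have h3 := col a 0 1
    have h4 := mm_det a
    rw [det_fin_three] at h4
    simp only [h1, h2, Jm] at h3 h4
    constructor
    · rw [inv_apply']
      show σ (mm a 2 1) = 0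
      simp at h3 h4
      grind
    · rw [inv_apply']
      show σ (mm a 2 0) = 0
      rw [h2, map_zero]

theorem mem_BB {g : SJ F q} : g ∈ BB F q ↔ mm g 2 0 = 0 := by
  refine ⟨fun h => h.2, fun h => ⟨?_, h⟩⟩
  have h3 := col g 0 0
  simp only [h, Jm] at h3
  simpa [cj_eq_zero] using h3

theorem uu_mem (a : UM F q) : uu a ∈ BB F q := mem_BB.2 rfl
theorem dd_mem (l : Fˣ) : dd l ∈ BB F q := mem_BB.2 rfl
theorem tt_not_mem : tt ∉ BB F q := fun h => by simpa [mm_tt] using mem_BB.1 h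
theorem IsSc.mem {g : SJ F q} (h : IsSc g) : g ∈ BB F q := by
  obtain ⟨c, hc⟩ := h
  rw [mem_BB, hc]; simp

theorem BB_decomp {g : SJ F q} (hg : g ∈ BB F q) : ∃ (a : UM F q) (l : Fˣ), g = uu a * dd l := by
  obtain ⟨h1, h2⟩ := hg
  have c01 := col g 0 1
  have c02 := col g 0 2
  have c12 := col g 1 2
  have c22 := col g 2 2
  have h4 := mm_det g
  rw [det_fin_three] at h4
  simp [h1, h2, Jm] at c01 c02 c12 c22 h4
  have hl : mm g 0 0 ≠ 0 := by rintro h; rw [h] at c02; simp at c02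
  have h21 : mm g 2 1 = 0 := by simpa [hl, cj_eq_zero] using c01
  have c02' := congrArg σ c02
  rw [map_mul, cj_cj, map_one] at c02'
  refine ⟨⟨mm g 1 2 * σ (mm g 0 0), mm g 0 2 * σ (mm g 0 0), ?_⟩, Units.mk0 _ hl, mm_inj ?_⟩
  · simp only [map_mul, cj_cj]; grind
  · ext i j
    rw [mul_apply', mm_uu, mm_dd]
    rw [h21] at c12 h4
    fin_cases i <;> fin_cases j <;> simp [h1, h2, h21, cj_cj] <;> grind

theorem not_BB_decomp {g : SJ F q} (hg : g ∉ BB F q) : ∃ r : UM F q,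
    r.x = mm g 1 0 / mm g 2 0 ∧ r.y = mm g 0 0 / mm g 2 0 ∧ (uu r * tt)⁻¹ * g ∈ BB F q := by
  rw [mem_BB] at hg
  have h2 := (cj_ne_zero (q := q)).2 hg
  have c00 := col g 0 0
  simp [Jm] at c00
  refine ⟨⟨mm g 1 0 / mm g 2 0, mm g 0 0 / mm g 2 0, ?_⟩, rfl, rfl, ?_⟩
  · simp only [map_div₀]; grind
  · rw [mem_BB, _root_.mul_inv_rev, tt_inv, mul_assoc, tt_mul_apply, ← map_inv, mul_apply', mm_uu]
    simp [Fin.rev]
    grind

/-- central root elements -/
def zz (c : F) (hc : σ c = c) : UM F q := ⟨0, c, by rw [hc]; simp [CharTwo.add_self_eq_zero]⟩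

theorem eq_zz {a : UM F q} (h : a.x = 0) : ∃ c hc, a = zz c hc := by
  have := a.h
  rw [h, zero_mul] at this
  exact ⟨a.y, by grind, H42.UM.ext h rfl⟩

theorem zz_sq (c : F) (hc : σ c = c) : (uu (zz c hc) : SJ F q) * uu (zz c hc) = 1 := by
  rw [← map_mul, H42.UM.sq_eq_one_iff.2 rfl, map_one]

theorem zz_ne_one {c : F} (hc : σ c = c) (h : c ≠ 0) : (uu (zz c hc) : SJ F q) ≠ 1 := fun e =>
  h (congrArg H42.UM.y (uu_injective (e.trans (map_one _).symm)))

theorem x_zero_comm {a : UM F q} (h : a.x = 0) (b : UM F q) : b * a = a * b :=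
  Subgroup.mem_center_iff.1 (H42.UM.mem_center_iff.2 h) b

theorem BB_conj_zz {g : SJ F q} (hg : g ∈ BB F q) {c : F} (hc : σ c = c) (h : c ≠ 0) :
    ∃ c' hc', c' ≠ 0 ∧ g * uu (zz c hc) * g⁻¹ = uu (zz c' hc') := by
  obtain ⟨a, l, rfl⟩ := BB_decomp hg
  have h1 : (act l (zz c hc)).x = 0 := mul_zero _
  obtain ⟨c', hc', e⟩ := eq_zz h1
  refine ⟨c', hc', ?_, ?_⟩
  · have : (l : F) * σ l * c = c' := congrArg H42.UM.y e
    rw [← this]
    exact mul_ne_zero (mul_ne_zero l.ne_zero ((cj_ne_zero (q := q)).2 l.ne_zero)) h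
  · calc _ = uu a * (dd l * uu (zz c hc) * (dd l)⁻¹) * (uu a)⁻¹ := by group
      _ = _ := by rw [dd_conj_uu, ← map_mul, x_zero_comm h1, map_mul, mul_inv_cancel_right, e]

theorem zz_tt_zz {c : F} (hc : σ c = c) (h : c ≠ 0) :
    (uu (zz c hc) : SJ F q) * (tt * uu (zz c⁻¹ (by rw [map_inv₀, hc])) * tt) * uu (zz c hc) =
      dd (Units.mk0 c h) * tt := mm_inj (by
  ext i j
  simp only [mul_apply', mm_uu, mm_dd, mm_tt]
  fin_cases i <;> fin_cases j <;> simp [zz, hc] <;> grind)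

theorem pow_three_of_trace {g : SJ F q} (h : mm g 0 0 + mm g 1 1 + mm g 2 2 = 0) : g ^ 3 = 1 := by
  have h1 : mm g⁻¹ = (mm g).adjugate := rfl
  have h2 : σ (mm g 2 2) + σ (mm g 1 1) + σ (mm g 0 0) = 0 := by
    have := congrArg σ h
    rw [map_add, map_add, map_zero] at this
    grind
  have e0 : mm g⁻¹ 0 0 = σ (mm g 2 2) := inv_apply' g 0 0
  have e1 : mm g⁻¹ 1 1 = σ (mm g 1 1) := inv_apply' g 1 1
  have e2 : mm g⁻¹ 2 2 = σ (mm g 0 0) := inv_apply' g 2 2
  rw [← e0, ← e1, ← e2, h1, adjugate_fin_three] at h2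
  have hd := mm_det g
  rw [det_fin_three] at hd
  simp at h2
  apply mm_inj
  rw [pow_three, mm_one]
  ext i j
  simp only [mul_apply']
  fin_cases i <;> fin_cases j <;> simp <;> grind

/-- the projection onto `PSU₃(q)` -/
theorem exists_proj : ∃ π : SJ F q →* PSU 3 F q, Function.Surjective π ∧ ∀ g, π g = 1 ↔ IsSc g := by
  obtain ⟨d, hd⟩ := exists_trace_eq_one F q
  let P : SL(3, F) := ⟨!![1, 0, d; 0, 1, 0; 1, 0, σ d], by simp [det_fin_three]; grind⟩
  have hP : (sl P)ᵀ * (sl P).map σ = Jm F := by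
    ext i j
    fin_cases i <;> fin_cases j <;> simp [P, sl, Jm, Matrix.mul_apply, Fin.sum_univ_three, cj_cj] <;>
      grind
  have h1 : (sl P) * sl P⁻¹ = 1 := by
    rw [← sl_mul, mul_inv_cancel, sl_one]
  have h2 : sl P⁻¹ * (sl P) = 1 := by
    rw [← sl_mul, inv_mul_cancel, sl_one]
  have key : ∀ g : SL(3, F), g ∈ SJ F q ↔ P * g * P⁻¹ ∈ SU 3 F q := by
    intro g
    rw [mem_SU_iff, isIsom_iff]
    show (sl g)ᵀ * Jm F * (sl g).map σ = Jm F ↔
      (sl P * sl g * sl P⁻¹)ᵀ * (sl P * sl g * sl P⁻¹).map σ = 1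
    generalize sl P⁻¹ = P' at h1 h2
    generalize (sl P) = P at hP h1 h2
    generalize (sl g) = g
    have e : (P * g * P')ᵀ * (P * g * P').map σ = P'ᵀ * (gᵀ * Jm F * g.map σ) * P'.map σ := by
      rw [← hP]; simp only [transpose_mul, Matrix.map_mul, Matrix.mul_assoc]
    rw [e]
    constructor
    · intro h
      rw [h, ← hP]
      calc _ = (P * P')ᵀ * (P * P').map σ := by
            simp only [transpose_mul, Matrix.map_mul, Matrix.mul_assoc]
        _ = 1 := by rw [h1]; simp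
    · intro h
      calc _ = (P' * P)ᵀ * (gᵀ * Jm F * g.map σ) * (P' * P).map σ := by rw [h2]; simp
        _ = Pᵀ * (P'ᵀ * (gᵀ * Jm F * g.map σ) * P'.map σ) * P.map σ := by
            simp only [transpose_mul, Matrix.map_mul, Matrix.mul_assoc]
        _ = _ := by rw [h, Matrix.mul_one, hP]
  let φ : SJ F q →* SU 3 F q :=
    ((MulAut.conj P).toMonoidHom.comp (SJ F q).subtype).codRestrict _ fun g => (key g).1 g.2
  have hφ : ∀ g, sm (φ g) = (sl P) * mm g *
      sl P⁻¹ := fun g => rfl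
  refine ⟨(QuotientGroup.mk' _).comp φ, (QuotientGroup.mk'_surjective _).comp fun g => ?_,
    fun g => ?_⟩
  · refine ⟨⟨P⁻¹ * g * P, (key _).2 ?_⟩, Subtype.ext ?_⟩
    · convert g.2 using 1; group
    · show P * (P⁻¹ * g * P) * P⁻¹ = g
      group
  · rw [MonoidHom.comp_apply, QuotientGroup.mk'_apply, QuotientGroup.eq_one_iff,
      mem_center_SU_iff (by norm_num), hφ]
    refine exists_congr fun c => ⟨fun h => ?_, fun h => ?_⟩
    · calc mm g = sl P⁻¹ * ((sl P) *
            mm g * sl P⁻¹) * (sl P) := by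
            rw [← Matrix.mul_assoc, ← Matrix.mul_assoc, h2, Matrix.mul_assoc, h2]; simp
        _ = _ := by rw [h]; simp [h2]
    · rw [h]; simp [h1]

end Cfsg.Agent.H50.U3J
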