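import Cfsg.Agent.H50.Bin
import Cfsg.Agent.SUZ.Main

/-! Binary actions of `L₂(q)` and `Sz(q)`, `q` even. -/

set_option autoImplicit false

namespace Cfsg.Agent.H50.Bin

open Subgroup MulAction Cfsg.Agent.SUZ Cfsg.Agent.H41

universe u v

variable {G : Type u} {Ω : Type v} {X : Type*} [Group G] [MulAction G X] [MulAction G Ω] {a : Ω}
  {t : G} {Q : Subgroup G} [Finite G] [Finite X]

theorem ih_all (G : Type u) (Ω : Type v) : IH G Ω := fun _ _ _ _ _ _ _ _ _ h => concl h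

theorem center_Q (h : Hyp G Ω a t Q) :
    (center (Q : Subgroup G)).map (Q : Subgroup G).subtype = Q0 G a := by
  have hc := concl h
  ext x
  constructor
  · rintro ⟨y, hy, rfl⟩
    rw [h.mem_Q0]
    refine ⟨y.2, ?_⟩
    have key : NonAb Q → (y : G) * y = 1 := by
      rintro ⟨u, hu, v, hv, huv⟩
      obtain ⟨n, -, hn, -⟩ := h.card_Q0
      obtain ⟨k, -, ξ, -, hig⟩ := H49.U3.exists_hig_Q h hc.pgroup hn
      have := hig.center_eq ⟨⟨u, hu⟩, ⟨v, hv⟩, fun e => huv (congrArg Subtype.val e)⟩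
      rw [this] at hy
      exact congrArg Subtype.val (hig.mem_Z.1 hy)
    rcases hc.cases with ⟨hA, -⟩ | ⟨hB, -⟩ | ⟨hC, -⟩
    · exact hA _ y.2
    · exact key hB.nonab
    · exact key hC.nonab
  · intro hx
    refine ⟨⟨x, h.Q0_le hx⟩, ?_, rfl⟩
    rw [SetLike.mem_coe, mem_center_iff]
    exact fun y => Subtype.ext (h.Q0_central hx y.2).symm

theorem bin_Q0 (h : Hyp G Ω a t Q) (g : G) :
    Bin G (G ⧸ (Q0 G a).map (MulAut.conj g).toMonoidHom) := by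
  apply bin_of_star
  · rintro _ ⟨z, hz, rfl⟩
    exact conj_invol (h.mem_Q0.1 hz).2
  · rintro _ ⟨z, hz, rfl⟩ hz1 y hy hc
    have hz1' : z ≠ 1 := by rintro rfl; exact hz1 (map_one _)
    refine ⟨g⁻¹ * y * g, ?_, by simp [mul_assoc]⟩
    have hc' : y * (g * z * g⁻¹) = g * z * g⁻¹ * y := hc
    have h1 := R1.fix_of_commute h.setup (g := g⁻¹ * y * g) hz1' (h.mem_Q0.1 hz).2
      (R1.Q_fix h.setup (h.Q0_le hz)) (by
        calc g⁻¹ * y * g * z = g⁻¹ * (y * (g * z * g⁻¹)) * g := by group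
          _ = _ := by rw [hc']; group)
    exact h.mem_Q0.2 ⟨R1.invol_mem_Q h.setup h1 (conj_invol' hy), conj_invol' hy⟩

/-- `Q₀` fixes the point -/
def A1 (a : Ω) (α : X) : Prop := ∀ x ∈ Q0 G a, x • α = α

theorem A1.smul (h : Hyp G Ω a t Q) {α : X} (hα : A1 (G := G) a α) {g : G} (hg : g • a = a) :
    A1 (G := G) a (g • α) := fun x hx => fix_of_conj_fix (hα _ (h.conj_mem_Q0' hg hx))

theorem A1.ne (h : Hyp G Ω a t Q) {α : X} (hα : A1 (G := G) a α) :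
    ∃ (u : G) (α : X), u ≠ 1 ∧ u * u = 1 ∧ u • α = α := by
  obtain ⟨s, r, hs⟩ := h.exists_dist
  exact ⟨s, α, hs.s1, hs.s2, hα s (h.s_mem_Q0 hs)⟩

theorem A1.moved (h : Hyp G Ω a t Q) {α : X} (hα : A1 (G := G) a α) {g r : G} (hg : g • α = α)
    (hr : r ∈ Q) (e : g • a = r • t • a) : A1 (G := G) a (t • r⁻¹ • α) := by
  have h1 : (g⁻¹ * r * t)⁻¹ • a = a := by
    apply R1.inv_fix
    rw [mul_smul, mul_smul, ← e, inv_smul_smul]
  have := hα.smul h h1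
  rw [mul_inv_rev, mul_inv_rev, inv_inv, R1.t_inv h.setup, mul_smul, mul_smul, hg] at this
  exact this

theorem t_fix (h : Hyp G Ω a t Q) (hf : FL G X) (hn : NT G X) {α : X} (h1 : A1 (G := G) a α)
    (h2 : A1 (G := G) a (t • α)) : t • α = α := by
  obtain ⟨s, r, hs⟩ := h.exists_dist
  have hs0 := h.s_mem_Q0 hs
  have tt := h.setup.mul_self
  have hodd := R1.odd_mul_invol h.setup hs.s1 hs.s2 (R1.Q_fix h.setup hs.sQ) tt
    (R1.ta_ne h.setup)
  refine inv_fix h hf hn (h1.ne h) (d := s * t * (s * t)) h.setup.ne_one tt ?_ ?_ ?_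
  · rw [mul_inv_rev, mul_inv_rev, R1.t_inv h.setup, inv_eq_of_mul_eq_one_left hs.s2]
    calc t * (s * t * (s * t)) * t = t * s * t * s * (t * t) := by group
      _ = _ := by rw [tt]; group
  · intro e
    have h3 := eq_one_of_odd_of_mul_self (x := s * t * (s * t))
      (hodd.of_dvd_nat (by rw [← pow_two]; exact orderOf_pow_dvd 2)) e
    exact h.st_ne_one hs.sQ (eq_one_of_odd_of_mul_self hodd h3)
  · rw [mul_smul, mul_smul, mul_smul, h2 s hs0, ← mul_smul t, tt, one_smul, h1 s hs0]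

theorem K_fix (h : Hyp G Ω a t Q) (hf : FL G X) (hn : NT G X) {α : X} (h1 : A1 (G := G) a α)
    (h2 : A1 (G := G) a (t • α)) {k : G} (hk : k ∈ Kg a t) : k • α = α := by
  obtain ⟨k1, k2, k3⟩ := h.mem_Kg.1 hk
  obtain ⟨l, l1, l2, l3, e⟩ := R1.exists_K_conj_t h.setup (R1.kt_invol k3)
    (by rw [mul_smul, k2])
  have h3 : t • l⁻¹ • α = l⁻¹ • α := by
    refine t_fix h hf hn (h1.smul h (R1.inv_fix l1)) ?_
    rw [← mul_smul, R1.t_mul_K_inv h.setup l3, mul_smul]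
    exact h2.smul h l1
  rw [← e, mul_smul, mul_smul, smul_inv_smul, smul_left_cancel_iff, mul_smul,
    t_fix h hf hn h1 h2] at h3
  exact h3

theorem V_eq_bot [IsSimpleGroup G] (h : Hyp G Ω a t Q) (hAB : ShapeA Q ∨ ShapeB a t Q) :
    Vg a t = ⊥ := by
  by_contra hV
  obtain ⟨h1, ⟨x, hx, y, hy, hxy⟩, -⟩ := h.types (ih_all G Ω) hV (h.c1_of_simple (ih_all G Ω))
    (concl h).pgroup
  rcases hAB with hA | hB
  · exact hxy (h.Q0_central (h.mem_Q0.2 ⟨hx, hA x hx⟩) hy)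
  · obtain ⟨n, hn2, hn, -⟩ := h.card_Q0
    rw [hB.card, hn] at h1
    have := Nat.pow_right_injective (a := 2 ^ n) (Nat.one_lt_two_pow (by omega)) h1
    omega

theorem D_eq_K (h : Hyp G Ω a t Q) (hV : Vg a t = ⊥) : Dg a t = Kg a t := by
  refine le_antisymm (fun d hd => ?_) h.Kg_le
  obtain ⟨v, hv, k, hk, rfl⟩ := h.exists_V_mul_K hd
  rw [hV, mem_bot] at hv
  rwa [hv, one_mul]

theorem not_moved [IsSimpleGroup G] (h : Hyp G Ω a t Q) (hAB : ShapeA Q ∨ ShapeB a t Q)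
    (hf : FL G X) (hn : NT G X) {α : X} (h1 : A1 (G := G) a α) {g : G} (hg : g • α = α) :
    g • a = a := by
  by_contra hga
  obtain ⟨r₀, hr₀, e⟩ := R1.exists_Q_smul h.setup hga
  have h2 := h1.moved h hg hr₀ e.symm
  replace h1 := h1.smul h (R1.Q_fix h.setup (inv_mem hr₀))
  generalize r₀⁻¹ • α = β at h1 h2
  have ht := t_fix h hf hn h1 h2
  have hQ : ∀ x ∈ Q, x • β = β := by
    rcases hAB with hA | hB
    · exact fun x hx => h1 x (h.mem_Q0.2 ⟨hx, hA x hx⟩)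
    obtain ⟨s, r, hs⟩ := h.exists_dist
    have hs0 := h.s_mem_Q0 hs
    have h3 := h1.moved h (g := t * s * t) (r := r⁻¹)
      (by rw [mul_smul, mul_smul, ht, h1 s hs0, ht]) (inv_mem hs.rQ)
      (by rw [hs.eq, mul_smul, mul_smul, R1.Q_fix h.setup hs.rQ])
    rw [inv_inv] at h3
    obtain ⟨n, hn2, hn0, hK⟩ := h.card_Q0
    obtain ⟨k, hk⟩ := H49.U3.exists_K_gen h
    have hkK : k ∈ Kg a t := hk ▸ mem_zpowers k
    obtain ⟨ξ, hξ, hig⟩ := h.exists_hig (concl h).pgroup le_rfl h.Q0_le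
      (fun k hk x hx => R1.conj_mem_Q h.setup (h.mem_Kg.1 hk).1 hx) hk hn0
    have h4 := K_fix h hf hn (h1.smul h (R1.Q_fix h.setup hs.rQ)) h3 hkK
    have h5 := K_fix h hf hn h1 h2 hkK
    have h6 : (k⁻¹ * r⁻¹ * k * r) • β = β := by
      rw [mul_smul, mul_smul, h4, mul_smul, inv_smul_smul, inv_smul_eq_iff, h5]
    have h7 : k⁻¹ * r⁻¹ * k * r ∈ Q :=
      mul_mem (R1.conj_mem_Q' h.setup (h.mem_Kg.1 hkK).1 (inv_mem hs.rQ)) hs.rQ
    rcases hig.irr_of_card (A := hig.Z) (C := ⊤) hig.inv_Z (fun _ _ => mem_top _)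
      (by rw [card_top, hig.card_Z, hB.card, hn0, pow_two]) ((stabilizer G β).subgroupOf Q)
      (fun x hx => by
        rw [mem_subgroupOf, mem_stabilizer_iff] at hx ⊢
        rw [hξ, mul_smul, mul_smul, h5, hx, inv_smul_eq_iff, h5])
      (fun x hx => h1 x (h.mem_Q0.2 ⟨x.2, congrArg Subtype.val (hig.mem_Z.1 hx)⟩)) le_top
      with h8 | h8
    · exfalso
      have h9 : (⟨_, h7⟩ : Q) ∈ hig.Z := h8 ▸ h6
      have h10 : k⁻¹ * r⁻¹ * k * r ∈ Q0 G a :=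
        h.mem_Q0.2 ⟨h7, congrArg Subtype.val (hig.mem_Z.1 h9)⟩
      obtain ⟨y, hy⟩ : ∃ y, y = k⁻¹ * r⁻¹ * k * r := ⟨_, rfl⟩
      rw [← hy] at h10
      have h11 : k⁻¹ * r⁻¹ * k = y * r⁻¹ := by rw [hy]; group
      have h12 : s * k = k * s := by
        have e1 : k⁻¹ * s⁻¹ * k = s⁻¹ := by
          calc k⁻¹ * s⁻¹ * k = (k⁻¹ * r⁻¹ * k) * (k⁻¹ * r⁻¹ * k) := by rw [← hB.sq s r hs]; group
            _ = y * (r⁻¹ * y) * r⁻¹ := by rw [h11]; group
            _ = (y * y) * r⁻¹ * r⁻¹ := by rw [← h.Q0_central h10 (inv_mem hs.rQ)]; group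
            _ = s⁻¹ := by rw [(h.mem_Q0.1 h10).2, ← hB.sq s r hs]; group
        rw [inv_eq_of_mul_eq_one_left hs.s2] at e1
        calc s * k = k * (k⁻¹ * s * k) := by group
          _ = k * s := by rw [e1]
      by_cases hk1 : k = 1
      · rw [← hk, hk1, zpowers_one_eq_bot, card_bot] at hK
        have : 2 ^ 2 ≤ 2 ^ n := Nat.pow_le_pow_right (by norm_num) hn2
        omega
      · exact hs.s1 (h.K_fpf hkK hk1 hs.sQ h12)
    · intro x hx
      have : (⟨x, hx⟩ : Q) ∈ (stabilizer G β).subgroupOf Q := h8 ▸ mem_top _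
      exact this
  have hD : ∀ d : G, d • a = a → d • t • a = t • a → d • β = β := fun d d1 d2 =>
    K_fix h hf hn h1 h2 (D_eq_K h (V_eq_bot h hAB) ▸ (show d ∈ Dg a t from ⟨d1, d2⟩))
  obtain ⟨u, -, hu⟩ := hn β
  apply hu
  by_cases hua : u • a = a
  · obtain ⟨x, hx, d, d1, d2, rfl⟩ := R1.exists_QD h.setup hua
    rw [mul_smul, hD d d1 d2, hQ x hx]
  · obtain ⟨x, hx, d, d1, d2, y, hy, rfl⟩ := R1.exists_ghtf h.setup hua
    rw [mul_smul, mul_smul, mul_smul, hQ y hy, ht, hD d d1 d2, hQ x hx]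

theorem mem_Q_of_fix [IsSimpleGroup G] (h : Hyp G Ω a t Q) (hAB : ShapeA Q ∨ ShapeB a t Q)
    (hf : FL G X) (hn : NT G X) {α : X} (h1 : A1 (G := G) a α) {g : G} (hg : g • α = α) :
    g ∈ Q := by
  obtain ⟨y, hy, k, d1, d2, rfl⟩ := R1.exists_QD h.setup (not_moved h hAB hf hn h1 hg)
  have hk : k ∈ Kg a t := D_eq_K h (V_eq_bot h hAB) ▸ (show k ∈ Dg a t from ⟨d1, d2⟩)
  by_cases hk1 : k = 1
  · rwa [hk1, mul_one]
  exfalso
  obtain ⟨x, hx, rfl⟩ := h.exists_comm_K hk hk1 hy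
  rw [inv_mul_cancel_right] at hg
  have h2 := fix_of_conj_fix hg
  have h3 := inv_fix h hf hn (h1.ne h) h.setup.ne_one h.setup.mul_self (h.mem_Kg.1 hk).2.2
    (fun e => hk1 (eq_one_of_odd_of_mul_self (R1.odd_of_D h.setup d1 d2) e)) h2
  exact R1.ta_ne h.setup (not_moved h hAB hf hn (h1.smul h (R1.Q_fix h.setup hx)) h3)

theorem exists_K_r (h : Hyp G Ω a t Q) (hB : ShapeB a t Q) {s r : G} (hs : Dist t Q s r) {g : G}
    (hg : g ∈ Q) (hg0 : g ∉ Q0 G a) : ∃ l ∈ Kg a t, ∃ y ∈ Q0 G a, g = l⁻¹ * r * l * y := by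
  have hs0 := h.s_mem_Q0 hs
  have hsq : ∀ l ∈ Kg a t, ∀ y ∈ Q0 G a, l⁻¹ * r * l * y * (l⁻¹ * r * l * y) = l⁻¹ * s * l := by
    intro l hl y hy
    have := h.Q0_central hy (R1.conj_mem_Q' h.setup (h.mem_Kg.1 hl).1 hs.rQ)
    calc _ = l⁻¹ * r * l * (y * (l⁻¹ * r * l)) * y := by group
      _ = l⁻¹ * (r * r) * l * (y * y) := by rw [this]; group
      _ = _ := by rw [hB.sq s r hs, (h.mem_Q0.1 hy).2, mul_one]
  let f : Q0 G a ⊕ (Kg a t × Q0 G a) → Q := Sum.elim (fun y => ⟨y, h.Q0_le y.2⟩)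
    fun p => ⟨(p.1 : G)⁻¹ * r * p.1 * p.2,
      mul_mem (R1.conj_mem_Q' h.setup (h.mem_Kg.1 p.1.2).1 hs.rQ) (h.Q0_le p.2.2)⟩
  have hinj : Function.Injective f := by
    rintro (y | ⟨l, y⟩) (y' | ⟨l', y'⟩) e
    · have e' : (y : G) = y' := congrArg (fun z : Q => (z : G)) e
      exact congrArg Sum.inl (Subtype.ext e')
    · exfalso
      have e' : (y : G) = (l' : G)⁻¹ * r * l' * y' := congrArg Subtype.val e
      have := hsq _ l'.2 _ y'.2
      rw [← e', (h.mem_Q0.1 y.2).2] at this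
      exact conj_ne_one' hs.s1 this.symm
    · exfalso
      have e' : (l : G)⁻¹ * r * l * y = y' := congrArg Subtype.val e
      have := hsq _ l.2 _ y.2
      rw [e', (h.mem_Q0.1 y'.2).2] at this
      exact conj_ne_one' hs.s1 this.symm
    · have e' : (l : G)⁻¹ * r * l * y = (l' : G)⁻¹ * r * l' * y' := congrArg Subtype.val e
      have h1 := hsq _ l.2 _ y.2
      rw [e', hsq _ l'.2 _ y'.2] at h1
      have h2 := h.K_eq_of_conj hs0 hs.s1 l'.2 l.2 h1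
      obtain rfl : l' = l := Subtype.ext h2
      obtain rfl : y = y' := Subtype.ext (mul_left_cancel e')
      rfl
  obtain ⟨n, hn2, hn, hK⟩ := h.card_Q0
  have hbij := hinj.bijective_of_nat_card_le (by
    rw [Nat.card_sum, Nat.card_prod, hB.card, hn, hK]
    have : 1 ≤ 2 ^ n := Nat.one_le_two_pow
    obtain ⟨m, hm⟩ : ∃ m, 2 ^ n = m + 1 := ⟨2 ^ n - 1, by omega⟩
    rw [hm, Nat.add_sub_cancel]
    nlinarith)
  obtain ⟨y | ⟨l, y⟩, e⟩ := hbij.2 ⟨g, hg⟩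
  · have e' : (y : G) = g := congrArg Subtype.val e
    exact absurd (e' ▸ y.2) hg0
  · exact ⟨l, l.2, y, y.2, (congrArg Subtype.val e).symm⟩

theorem sq_of_fix [IsSimpleGroup G] (h : Hyp G Ω a t Q) (hAB : ShapeA Q ∨ ShapeB a t Q)
    (hf : FL G X) (hn : NT G X) {α : X} (h1 : A1 (G := G) a α) {g : G} (hg : g • α = α) :
    g * g = 1 := by
  have hgQ := mem_Q_of_fix h hAB hf hn h1 hg
  rcases hAB with hA | hB
  · exact hA g hgQ
  by_contra hg2
  obtain ⟨s, r, hs⟩ := h.exists_dist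
  obtain ⟨l, hl, y, hy, rfl⟩ := exists_K_r h hB hs hgQ fun e => hg2 (h.mem_Q0.1 e).2
  rw [mul_smul, h1 y hy] at hg
  have hr := fix_of_conj_fix hg
  replace h1 := h1.smul h (h.mem_Kg.1 hl).1
  generalize l • α = β at h1 hr
  have hQ := fun {g : G} (hg : g • β = β) => mem_Q_of_fix h (Or.inr hB) hf hn h1 hg
  have tt := h.setup.mul_self
  have ti := R1.t_inv h.setup
  have hrr := hB.sq s r hs
  have e1 : (t * s * t) * r * (t * s * t)⁻¹ = t * r⁻¹ := by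
    calc (t * s * t) * r * (t * s * t)⁻¹ = r⁻¹ * (t * r * t⁻¹) * r := by rw [hs.eq]; group
      _ = t * (s * r) := by rw [ti, h.trt hs]; group
      _ = t * r⁻¹ := by
        congr 1
        apply eq_inv_of_mul_eq_one_left
        rw [mul_assoc, hrr, hs.s2]
  have e2 : (r * t) * s * (r * t)⁻¹ = t := by
    calc (r * t) * s * (r * t)⁻¹ = r * (t * s * t⁻¹) * r⁻¹ := by group
      _ = t := by rw [ti, hs.eq]; group
  obtain ⟨c, hc⟩ : ∃ c, c = t * s * t := ⟨_, rfl⟩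
  rw [← hc] at e1
  have e3 : t • c • β = r⁻¹ • c • β := by
    have := conj_fix (g := c) hr
    rw [e1, mul_smul] at this
    nth_rewrite 1 [← this]
    rw [← mul_smul t, tt, one_smul]
  obtain ⟨g, g1, g2, g3⟩ := hf t r⁻¹
  have k1 := hQ (g2 β (R1.inv_fix hr))
  have k2 : g • (r * t) • β = (r * t) • β := g1 _ (by
    have := conj_fix (g := r * t) (h1 s (h.s_mem_Q0 hs))
    rwa [e2] at this)
  have k3 : ((r * t)⁻¹ * g * (r * t)) ∈ Q := hQ (by
    have := conj_fix' (g := r * t) k2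
    rwa [inv_smul_smul] at this)
  have k4 : g = 1 := R1.Q_eq_one_of_fix h.setup k1 (b := (r * t) • a)
    (by rw [mul_smul]; exact R1.smul_ne_a (R1.Q_fix h.setup hs.rQ) (R1.ta_ne h.setup))
    (fix_of_conj_fix (R1.Q_fix h.setup k3))
  have k5 := g3 _ e3
  rw [k4, one_smul] at k5
  have k6 : t • c • a = c • a := fix_of_conj_fix (R1.Q_fix h.setup (hQ (by
    have := conj_fix' (g := c) k5.symm
    rwa [inv_smul_smul] at this)))
  have k7 : r⁻¹ • c • a = c • a := fix_of_conj_fix (R1.Q_fix h.setup (hQ (by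
    have := conj_fix' (g := c) (e3.symm.trans k5.symm)
    rwa [inv_smul_smul] at this)))
  have k8 := R1.eq_a_of_fix h.setup (inv_mem hs.rQ) (by
    rw [inv_ne_one]; rintro rfl; exact hs.s1 (by rw [← hrr, one_mul])) k7
  rw [k8] at k6
  exact R1.ta_ne h.setup k6

/-- a stabilizer of exponent two containing `Q₀` is `Q₀` -/
theorem stab_eq (h : Hyp G Ω a t Q) {α : X} (h1 : A1 (G := G) a α)
    (h2 : ∀ g : G, g • α = α → g * g = 1) : stabilizer G α = Q0 G a := by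
  refine le_antisymm (fun g hg => ?_) h1
  obtain ⟨s, r, hs⟩ := h.exists_dist
  have hg' : g • α = α := hg
  have h3 := h2 (g * s) (by rw [mul_smul, h1 s (h.s_mem_Q0 hs), hg'])
  have h4 : g * s = s * g := by
    rw [eq_inv_of_mul_eq_one_left h3, mul_inv_rev, inv_eq_of_mul_eq_one_left hs.s2,
      inv_eq_of_mul_eq_one_left (h2 g hg')]
  exact h.mem_Q0.2 ⟨R1.invol_mem_Q h.setup
    (R1.fix_of_commute h.setup hs.s1 hs.s2 (R1.Q_fix h.setup hs.sQ) h4) (h2 g hg'), h2 g hg'⟩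

end Cfsg.Agent.H50.Bin
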